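import Groth.Prelude.Def_CGrpSh
import Groth.Prelude.Def_W4c1extbt15Mult
import Groth.Agent.PtsDesc95.Basic

/-!
Multilinear alternating morphisms and quotients.
-/

set_option autoImplicit false
universe u w

open CategoryTheory CategoryTheory.Limits Opposite MonoidalCategory CartesianMonoidalCategory MonObj AlgebraicGeometry
open Groth.Agent

namespace Groth.Agent.MultSch95

variable {S : Scheme.{u}} {M M' N : Over S}

theorem comp_tuple {T Z : Over S} (f : Z ⟶ T) :
    ∀ {n : ℕ} (x : Fin n → (T ⟶ M)), f ≫ MultSch.tuple x = MultSch.tuple fun l => f ≫ x l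
  | 0, _ => toUnit_unique _ _
  | _ + 1, x => by
    show f ≫ lift (x 0) (MultSch.tuple fun i => x i.succ) = lift (f ≫ x 0) (MultSch.tuple fun i => f ≫ x i.succ)
    rw [comp_lift, comp_tuple f fun i => x i.succ]

theorem exists_tuple {T : Over S} : ∀ {n : ℕ} (a : T ⟶ MultSch.pow M n), ∃ x : Fin n → (T ⟶ M), MultSch.tuple x = a
  | 0, a => ⟨Fin.elim0, toUnit_unique _ _⟩
  | n + 1, a => by
    obtain ⟨x, hx⟩ := exists_tuple (a ≫ snd M (MultSch.pow M n))
    refine ⟨Fin.cons (a ≫ fst M (MultSch.pow M n)) x, ?_⟩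
    show lift _ _ = a
    apply CartesianMonoidalCategory.hom_ext
    · rw [lift_fst]; rfl
    · rw [lift_snd]
      simp only [Fin.cons_succ]
      exact hx

/-- The power of a morphism. -/
noncomputable def powMap (π : M ⟶ M') : ∀ n : ℕ, MultSch.pow M n ⟶ MultSch.pow M' n
  | 0 => 𝟙 _
  | n + 1 => lift (fst M (MultSch.pow M n) ≫ π) (snd M (MultSch.pow M n) ≫ powMap π n)

theorem tuple_powMap (π : M ⟶ M') {T : Over S} :
    ∀ {n : ℕ} (x : Fin n → (T ⟶ M)), MultSch.tuple x ≫ powMap π n = MultSch.tuple fun l => x l ≫ π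
  | 0, _ => toUnit_unique _ _
  | n + 1, x => by
    let a : T ⟶ M ⊗ MultSch.pow M n := lift (x 0) (MultSch.tuple fun i => x i.succ)
    refine Eq.trans (comp_lift a (fst M (MultSch.pow M n) ≫ π) (snd M (MultSch.pow M n) ≫ powMap π n))
      (congrArg₂ lift ?_ ?_)
    · rw [← Category.assoc]
      exact congrArg (· ≫ π) (lift_fst _ _)
    · rw [← Category.assoc]
      exact (congrArg (· ≫ powMap π n) (lift_snd _ _)).trans (tuple_powMap π _)

theorem tuple_injective {T : Over S} :
    ∀ {n : ℕ} {x y : Fin n → (T ⟶ M)}, MultSch.tuple x = MultSch.tuple y → x = y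
  | 0, _, _, _ => funext fun i => i.elim0
  | n + 1, x, y, h => by
    have h1 : lift (x 0) (MultSch.tuple fun i => x i.succ) = lift (y 0) (MultSch.tuple fun i => y i.succ) := h
    have h0 := congrArg (fun a => a ≫ fst M (MultSch.pow M n)) h1
    have hs := congrArg (fun a => a ≫ snd M (MultSch.pow M n)) h1
    simp only [lift_fst, lift_snd] at h0 hs
    funext i
    refine Fin.cases h0 (fun j => congrFun (tuple_injective hs) j) i

theorem comp_update {T Z : Over S} {n : ℕ} (f : Z ⟶ T) (x : Fin n → (T ⟶ M)) (i : Fin n) (a : T ⟶ M) :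
    (fun l => f ≫ Function.update x i a l) = Function.update (fun l => f ≫ x l) i (f ≫ a) := by
  funext l
  rcases eq_or_ne l i with rfl | h
  · simp
  · simp [h]

theorem update_comp {T : Over S} {n : ℕ} (π : M ⟶ M') (x : Fin n → (T ⟶ M)) (i : Fin n) (a : T ⟶ M) :
    (fun l => Function.update x i a l ≫ π) = Function.update (fun l => x l ≫ π) i (a ≫ π) := by
  funext l
  rcases eq_or_ne l i with rfl | h
  · simp
  · simp [h]

variable [GrpObj M] [GrpObj N] [IsCommMonObj N] {n : ℕ} {φ : MultSch.pow M n ⟶ N}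

/-- An alternating multilinear morphism changes sign under the exchange of two coordinates. -/
theorem swap_mul_eq_one (hmult : MultSch.IsMultilinear φ) (halt : MultSch.IsAlternating φ) (T : Over S)
    (x : Fin n → (T ⟶ M)) {i j : Fin n} (hij : i ≠ j) (a b : T ⟶ M) :
    (MultSch.tuple (Function.update (Function.update x i a) j b) ≫ φ) *
      (MultSch.tuple (Function.update (Function.update x i b) j a) ≫ φ) = 1 := by
  let F : (T ⟶ M) → (T ⟶ M) → (T ⟶ N) := fun p q =>
    MultSch.tuple (Function.update (Function.update x i p) j q) ≫ φ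
  have hdiag : ∀ p, F p p = 1 := fun p => halt T _ i j hij (by simp [hij])
  have hr : ∀ p q q', F p (q * q') = F p q * F p q' := fun p q q' => hmult T _ j q q'
  have hl : ∀ p p' q, F (p * p') q = F p q * F p' q := fun p p' q => by
    simp only [F, Function.update_comm hij]
    exact hmult T _ i p p'
  have h := hdiag (a * b)
  rw [hl, hr, hr, hdiag, hdiag, _root_.one_mul, _root_.mul_one] at h
  exact h

/-- Triviality on the image in the first coordinate propagates to all coordinates. -/
theorem vanish_slot (hmult : MultSch.IsMultilinear φ) (halt : MultSch.IsAlternating φ) (hn : 1 ≤ n)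
    {A : Over S} (j : A ⟶ M)
    (hvan : ∀ (T : Over S) (y : T ⟶ A) (x : Fin n → (T ⟶ M)), x ⟨0, hn⟩ = y ≫ j → MultSch.tuple x ≫ φ = 1)
    (T : Over S) (x : Fin n → (T ⟶ M)) (i : Fin n) (y : T ⟶ A) :
    MultSch.tuple (Function.update x i (y ≫ j)) ≫ φ = 1 := by
  by_cases hi : i = ⟨0, hn⟩
  · subst hi; exact hvan T y _ (Function.update_self _ _ _)
  · have h := swap_mul_eq_one hmult halt T x hi (y ≫ j) (x ⟨0, hn⟩)
    rw [hvan T y (Function.update (Function.update x i (x ⟨0, hn⟩)) ⟨0, hn⟩ (y ≫ j)) (Function.update_self _ _ _),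
      _root_.mul_one] at h
    convert h using 3
    exact (Function.update_eq_self_iff.mpr (by rw [Function.update_of_ne (Ne.symm hi)])).symm

/-- Changing one coordinate by an element killed by `φ`. -/
theorem update_mul (hmult : MultSch.IsMultilinear φ) (T : Over S) (x : Fin n → (T ⟶ M)) (i : Fin n) (d : T ⟶ M)
    (hd : MultSch.tuple (Function.update x i d) ≫ φ = 1) :
    MultSch.tuple (Function.update x i (x i * d)) ≫ φ = MultSch.tuple x ≫ φ := by
  rw [hmult T x i, hd, _root_.mul_one, Function.update_eq_self]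

omit [GrpObj M] [GrpObj N] [IsCommMonObj N] in
/-- Powers of local epimorphisms are local epimorphisms. -/
theorem locLift_powMap {K : Precoverage Scheme.{u}} {π : M ⟶ M'} (hπ : PtsDesc95.LocLift K π) (n : ℕ) :
    PtsDesc95.LocLift K (powMap π n) := by
  intro T y
  obtain ⟨x, rfl⟩ := exists_tuple y
  obtain ⟨R, hR, hl⟩ := hπ.inter x
  refine ⟨R, hR, fun Z f hf => ?_⟩
  obtain ⟨x', hx'⟩ := hl hf
  exact ⟨MultSch.tuple x', by rw [tuple_powMap, comp_tuple]; exact congrArg MultSch.tuple (funext hx')⟩

/-- A multilinear morphism killing the kernel in each coordinate is constant on the fibres of the power. -/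
theorem fibre_const {K : Precoverage Scheme.{u}} [(QuotSh.J K S).Subcanonical] [GrpObj M'] [IsCommMonObj M]
    [IsCommMonObj M'] {A : Over S} [GrpObj A] [IsCommMonObj A] (j : A ⟶ M) (π : M ⟶ M') [IsMonHom j] [IsMonHom π]
    (w : j ≫ π = 1) (hex : (CGrpSh.seq K j π w).Exact)
    (hmult : MultSch.IsMultilinear φ)
    (hvan : ∀ (T : Over S) (x : Fin n → (T ⟶ M)) (i : Fin n) (y : T ⟶ A),
      MultSch.tuple (Function.update x i (y ≫ j)) ≫ φ = 1)
    (T : Over S) (a b : T ⟶ MultSch.pow M n) (h : a ≫ powMap π n = b ≫ powMap π n) : a ≫ φ = b ≫ φ := by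
  obtain ⟨x, rfl⟩ := exists_tuple a
  obtain ⟨x', rfl⟩ := exists_tuple b
  rw [tuple_powMap, tuple_powMap] at h
  have hx := congrFun (tuple_injective h)
  classical
  let z : Finset (Fin n) → Fin n → (T ⟶ M) := fun s l => if l ∈ s then x' l else x l
  have key : ∀ s, MultSch.tuple (z s) ≫ φ = MultSch.tuple x ≫ φ := by
    intro s
    induction s using Finset.induction with
    | empty => simp [z]
    | insert i s hi ih =>
      rw [← ih]
      let d : T ⟶ M := (x i)⁻¹ * x' i
      have hd : d ≫ π = 1 := by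
        rw [MonObj.mul_comp, GrpObj.inv_comp, hx i, inv_mul_cancel]
      have hzero : MultSch.tuple (Function.update (z s) i d) ≫ φ = 1 := by
        obtain ⟨R, hR, hl⟩ := PtsDesc95.exists_local_preimage j π w hex T d hd
        refine PtsDesc95.hom_ext hR fun Z f hf => ?_
        obtain ⟨y', hy'⟩ := hl hf
        rw [← Category.assoc, comp_tuple, comp_update, ← hy', hvan, MonObj.comp_one]
      have he : z (insert i s) = Function.update (z s) i (z s i * d) := by
        funext l
        rcases eq_or_ne l i with rfl | hl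
        · simp [z, hi, d]
        · simp [z, hl]
      rw [he, update_mul hmult T (z s) i d hzero]
  have := key Finset.univ
  simpa [z] using this.symm

end Groth.Agent.MultSch95
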